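import Cfsg.Agent.Known.Inv.Lie2
import Cfsg.Agent.BN.LangS

/-! The number of components of the subsystems killed by sign characters. -/

set_option autoImplicit false

namespace CF.KI

open CF.Chev CF.BN CF.Chev.Tab

section

variable {B ι : Type} [Fintype B] [DecidableEq B] [Fintype ι] [DecidableEq ι]
  {C : ChevBasis B ι} {π : Equiv.Perm ι} {n : ℕ} {e e' : B → ZMod 2}

variable (C n e) in
/-- A bound for the number of components. -/
def N0 : Prop := ∀ col : ι → ℕ, (∀ r ∈ Sg C e, ∀ s ∈ Sg C e, C.A r s ≠ 0 → col r = col s) →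
  (col '' Sg C e).ncard ≤ n

theorem NB.of_N0 (h : ∀ e, e ≠ 0 → N0 C n e) : NB C π n := fun e _ _ col h1 _ h2 =>
  h e (by rintro rfl; simp [Sg] at h1) col h2.2

theorem N0.refl (i : B) (h : N0 C n e') (he : ∀ j, e' j = e j - C.car i j * e i) : N0 C n e :=
  fun col h1 => by
  have h2 : ∀ r, C.sref i r ∈ Sg C e ↔ r ∈ Sg C e' := fun r => by
    simp [Sg, C.vec_sref, C.vec_simple, C.A_simple, C.sp_apply, he, sub_mul, mul_sub,
      Pi.single_apply, Finset.sum_mul, mul_left_comm, mul_assoc]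
  refine le_trans (le_of_eq (congrArg _ ?_)) (h (col ∘ C.sref i) fun r hr s hs h3 =>
    h1 _ ((h2 r).2 hr) _ ((h2 s).2 hs) (by rwa [RootSys.A_aut (C.sref_mem_Aut i)]))
  rw [Set.image_comp, ← (Set.ext h2 : C.sref i ⁻¹' Sg C e = Sg C e'), (C.sref i).image_preimage]

theorem ncard_le_of_class {col : ι → ℕ} {S : Set ι} (η : ι → ZMod 2)
    (h : ∀ r ∈ S, (col '' {s ∈ S | η s = η r}).ncard ≤ n) : (col '' S).ncard ≤ 2 * n := by
  have h1 : ∀ a, (col '' {s ∈ S | η s = a}).ncard ≤ n := fun a =>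
    (Set.eq_empty_or_nonempty {s ∈ S | η s = a}).elim (fun e => by simp [e])
      fun ⟨r, h1, h2⟩ => h2 ▸ h r h1
  refine le_trans ?_ ((Set.ncard_union_le _ _).trans ((add_le_add (h1 0) (h1 1)).trans_eq
    (two_mul n).symm))
  rw [← Set.image_union]
  exact Set.ncard_le_ncard (Set.image_mono fun r hr =>
    ((by decide : ∀ a : ZMod 2, a = 0 ∨ a = 1) _).imp (And.intro hr) (And.intro hr))

theorem exists_eta {J : Type} [Fintype J] {E : Euc B ι J} (h : C.toRootSys = E.rs) {I : Type}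
    {wt : I → J → ℤ} (a : I) (h1 : ∀ b, wt b - wt a ∈ E.L.range) : ∃ η : I → ZMod 2,
      (∀ r b c, E.ev r = wt b - wt c → (r ∈ Sg C e ↔ η b = η c)) ∧
        ∀ b c b' c', wt b - wt c = wt b' - wt c' → η b - η c = η b' - η c' := by
  choose v hv using h1
  have h2 : ∀ b c, E.L (v b - v c) = wt b - wt c := fun b c => by simp [hv]
  refine ⟨fun b => ∑ i, v b i * e i, fun r b c h3 => ?_, fun b c b' c' h3 => ?_⟩
  · have : C.vec r = v b - v c := h ▸ E.L_injective ((E.L_rs_vec r).trans (h3.trans (h2 b c).symm))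
    simp [Sg, this, sub_mul, sub_eq_zero]
  · have := E.L_injective ((h2 b c).trans (h3.trans (h2 b' c').symm))
    simpa [sub_mul] using congrArg (fun x : B → ℤ => ∑ i, (x i : ZMod 2) * e i) this

end

theorem n0_A {n : ℕ} (e : Fin n → ZMod 2) : N0 (cbA n) 2 e := fun col h => by
  obtain ⟨η, h1, -⟩ := exists_eta (e := e) cbA_rs (wt := wtA) 0 fun b => by
    by_cases h1 : b = 0
    · simp [h1]
    · exact ⟨_, (eucA n).L_rs_vec ⟨(b, 0), h1⟩⟩
  replace h1 := fun r => h1 r _ _ (eucA_ev r)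
  refine ncard_le_of_class (n := 1) (fun r => η r.1.1) fun r hr =>
    (Set.ncard_le_ncard (t := {col r}) ?_).trans (by simp)
  rintro _ ⟨s, ⟨hs, h2⟩, rfl⟩
  have := r.2
  have := s.2
  by_cases h3 : s.1.1 = r.1.1
  · exact h s hs r hr (by simp only [cbA_A, Ne, Fin.ext_iff] at *; omega)
  · exact (h s hs ⟨(s.1.1, r.1.1), h3⟩ ((h1 _).2 h2)
      (by simp only [cbA_A, Ne, Fin.ext_iff, if_true] at *; omega)).trans
      (h _ ((h1 _).2 h2) r hr (by simp only [cbA_A, Ne, Fin.ext_iff, if_true] at *; omega))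

section

variable {c m : ℕ} {B : Type} [Fintype B] [DecidableEq B] (b : BaseO c m B)

theorem n0_O (hm : 4 ≤ m) (e : B → ZMod 2) : N0 b.cb (2 * c) e := fun col h => by
  have ok := b.ok
  have k0 : ∀ x y : Fin m, x ≠ y → (c = 2 → x.val + y + 1 ≠ m) → wtO x - wtO y ∈ b.euc.L.range :=
    fun x y h1 h2 => (b.exists_rt h1 h2).elim fun r hr => ⟨_, (b.euc.L_rs_vec r).trans hr⟩
  obtain ⟨η, h1, h2⟩ := exists_eta (e := e) b.cb_rs (wt := wtO) ⟨0, by omega⟩ fun x => by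
    by_cases h1 : x.val = 0
    · simp [show x = ⟨0, by omega⟩ from Fin.ext h1]
    by_cases h2 : x.val + 1 = m
    · simpa using add_mem (k0 x ⟨1, by omega⟩ (by simp [Fin.ext_iff]; omega) (by simp; omega))
        (k0 ⟨1, by omega⟩ ⟨0, by omega⟩ (by simp) (by simp; omega))
    · exact k0 x _ (by simpa [Fin.ext_iff]) (by simpa using fun _ => h2)
  have h3 : ∀ x y : Fin m, η x.rev = η x → η y.rev = η y := fun x y e => by
    have := h2 x y y.rev x.rev (wtO_sub_rev x y).symm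
    revert this e
    generalize η x = a, η y = b, η x.rev = c, η y.rev = d
    revert a b c d; decide
  have : Nonempty (RtO c m) := ⟨⟨(⟨0, by omega⟩, ⟨1, by omega⟩), by simp, by
    unfold OkO at ok; simp; omega⟩⟩
  choose! R hR using fun x y : Fin m => b.exists_rt (a := x) (a' := y)
  let P := fun x y : Fin m => η x = η y ∧ x.val ≠ y ∧ (c = 2 → x.val + y + 1 ≠ m)
  have h4 : ∀ x y z w, P x y → P z w → dlt z x - dlt z y - (dlt w x - dlt w y) ≠ 0 →
      col (R x y) = col (R z w) := fun x y z w a1 a2 a3 => by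
    have a4 := hR x y (Fin.ne_of_val_ne a1.2.1) a1.2.2
    have a5 := hR z w (Fin.ne_of_val_ne a2.2.1) a2.2.2
    refine h _ ((h1 _ _ _ a4).2 a1.1) _ ((h1 _ _ _ a5).2 a2.1) fun e => a3 ?_
    rw [b.cb_rs, Euc.A_eq_zero_iff, show b.euc.ev _ = _ from a4, show b.euc.ev _ = _ from a5] at e
    simp only [sub_dotProduct, dotProduct_sub, wtO_dot] at e
    omega
  have h5 : ∀ r ∈ Sg b.cb e, ∃ x y, P x y ∧ 2 * x.val + 1 ≠ m ∧ η x = η r.1.1 ∧
      col r = col (R x y) := fun r hr => by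
    have a1 : P r.1.1 r.1.2 := ⟨(h1 r _ _ rfl).1 hr, Fin.val_ne_of_ne r.2.1, r.ne_rev⟩
    have a2 : r = R r.1.1 r.1.2 := b.euc.ev_inj (hR _ _ r.2.1 r.ne_rev).symm
    by_cases a3 : 2 * r.1.1.val + 1 = m
    · have a4 : P r.1.2 r.1.1 := ⟨a1.1.symm, a1.2.1.symm, by have := a1.2; omega⟩
      exact ⟨_, _, a4, by have := a1.2; omega, a1.1.symm, (congrArg col a2).trans
        (h4 _ _ _ _ a1 a4 (by have := a1.2; simp only [dlt, if_true]; omega))⟩
    · exact ⟨_, _, a1, a3, rfl, congrArg col a2⟩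
  refine ncard_le_of_class (fun r => η r.1.1) fun r hr => ?_
  obtain ⟨x, y, a1, a2, a3, -⟩ := h5 r hr
  have h6 : ∀ z, P x z → col (R x z) = col (R x y) ∨ c = 2 ∧ col (R x z) = col (R x y.rev) :=
    fun z a4 => by
    have := a1.2
    have := a4.2
    unfold OkO at ok
    by_cases a5 : z.val + y + 1 = m ∧ z.val + x + 1 ≠ m
    · obtain rfl : z = y.rev := Fin.ext (by rw [Fin.val_rev]; omega)
      refine ok.symm.imp (fun a6 => ?_) fun a6 => ⟨a6, rfl⟩
      have a7 : P x x.rev := ⟨(h3 y x (a4.1.symm.trans a1.1)).symm, by rw [Fin.val_rev]; omega,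
        by omega⟩
      exact (h4 _ _ _ _ a4 a7 (by simp only [dlt, Fin.val_rev] at *; omega)).trans
        (h4 _ _ _ _ a7 a1 (by simp only [dlt, Fin.val_rev] at *; omega))
    · exact .inl (h4 _ _ _ _ a4 a1 (by simp only [dlt, if_true]; omega))
  have h7 : ∀ s ∈ Sg b.cb e, η s.1.1 = η r.1.1 → ∃ z, P x z ∧ col s = col (R x z) :=
    fun s hs a4 => by
    obtain ⟨z, w, a5, a6, a7, a8⟩ := h5 s hs
    rw [a8]
    have a9 : η z = η x := a7.trans (a4.trans a3.symm)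
    have := a5.2
    by_cases a10 : z = x
    · exact ⟨w, a10 ▸ a5, a10 ▸ rfl⟩
    replace a10 := Fin.val_ne_of_ne a10
    by_cases a11 : z.val + x + 1 = m
    · have a12 := h3 x w (Fin.ext (by rw [Fin.val_rev]; omega : x.rev.val = z) ▸ a9)
      have a13 : P x w.rev := ⟨(a12.trans (a5.1.symm.trans a9)).symm,
        by rw [Fin.val_rev]; omega, by rw [Fin.val_rev]; omega⟩
      exact ⟨_, a13, h4 _ _ _ _ a5 a13 (by simp only [dlt, Fin.val_rev]; omega)⟩
    by_cases a12 : w.val + x + 1 = m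
    · have a13 := h3 x z (Fin.ext (by rw [Fin.val_rev]; omega : x.rev.val = w) ▸ a5.1.symm.trans a9)
      have a14 : P x z.rev := ⟨(a13.trans a9).symm, by rw [Fin.val_rev]; omega,
        by rw [Fin.val_rev]; omega⟩
      exact ⟨_, a14, h4 _ _ _ _ a5 a14 (by simp only [dlt, Fin.val_rev]; omega)⟩
    have a13 : P x z := ⟨a9.symm, a10.symm, by omega⟩
    exact ⟨z, a13, h4 _ _ _ _ a5 a13 (by simp only [dlt, if_true]; omega)⟩
  rcases ok with rfl | ⟨rfl, -⟩
  · refine (Set.ncard_le_ncard (t := {col (R x y), col (R x y.rev)}) ?_).trans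
      ((Set.ncard_insert_le _ _).trans (by simp))
    rintro _ ⟨s, ⟨hs, a4⟩, rfl⟩
    obtain ⟨z, a5, a6⟩ := h7 s hs a4
    exact a6 ▸ (h6 z a5).imp_right And.right
  · refine (Set.ncard_le_ncard (t := {col (R x y)}) ?_).trans (by simp)
    rintro _ ⟨s, ⟨hs, a4⟩, rfl⟩
    obtain ⟨z, a5, a6⟩ := h7 s hs a4
    exact a6 ▸ (h6 z a5).resolve_right (by simp)

end

section

variable (T : Tab)

/-- Membership in the subsystem. -/
def inS (a r : ℕ) : Bool := decide (sumLt T.l (fun i => T.vec r i * dig a 1 i) % 2 = 0)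

/-- Roots which are not orthogonal. -/
def nzA (r s : ℕ) : Bool := !decide (sumLt T.l (fun i => T.cov r i * T.car i s) = 0)

/-- Every root of the subsystem is close to one of two roots. -/
def chkRep (x : ℕ × ℕ × ℕ) : Bool := x.2.1 < T.n && x.2.2 < T.n && inS T x.1 x.2.1 &&
  inS T x.1 x.2.2 && allLt T.n fun r => !inS T x.1 r || !allLt T.n fun u =>
    !(inS T x.1 u && nzA T r u && (nzA T u x.2.1 || nzA T u x.2.2))

/-- Every sign character is conjugate to a representative. -/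
def chkAll (P : ℕ) (L : List (ℕ × ℕ × ℕ)) : Bool := L.all (chkRep T) && allLt (2 ^ T.l) fun a =>
  a = 0 || L.any (·.1 = a) || dig P 16 a / 32 % 8 < T.l && dig P 16 a / 256 < 2 ^ T.l &&
    dig P 16 a / 256 ≠ 0 && dig P 16 (dig P 16 a / 256) % 32 < dig P 16 a % 32 && allLt T.l fun j =>
      decide ((dig (dig P 16 a / 256) 1 j - dig a 1 j + T.car (dig P 16 a / 32 % 8) (T.sim j) *
        dig a 1 (dig P 16 a / 32 % 8)) % 2 = 0)

variable {T} {l n : ℕ} {C : ChevBasis (Fin l) (Fin n)} (H : TabOf C T)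
include H

theorem inS_iff (a : ℕ) (r : Fin n) : inS T a r ↔ r ∈ Sg C fun i => dig a 1 i := by
  rw [inS, decide_eq_true_iff, ← H.hl, sumLt_eq, ← Int.dvd_iff_emod_eq_zero]
  exact (ZMod.intCast_zmod_eq_zero_iff_dvd _ 2).symm.trans (by simp [Sg, H.vec])

theorem nzA_iff (r s : Fin n) : nzA T r s ↔ C.A r s ≠ 0 := by
  simp [nzA, ← H.hl, sumLt_eq, H.A]

theorem n0_of_chk {P : ℕ} {L : List (ℕ × ℕ × ℕ)} (h : chkAll T P L) (e : Fin l → ZMod 2)
    (he : e ≠ 0) : N0 C 2 e := by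
  simp only [chkAll, Bool.and_eq_true, List.all_eq_true, allLt_iff, Bool.or_eq_true,
    decide_eq_true_iff, List.any_eq_true, ← H.hl] at h
  have key : ∀ k a, a < 2 ^ l → a ≠ 0 → dig P 16 a % 32 = k → N0 C 2 fun i => dig a 1 i := fun k => by
    induction' k using Nat.strong_induction_on with k ih
    rintro a h1 h2 rfl
    obtain (h3 | ⟨⟨a, β, γ⟩, h3, rfl⟩) | ⟨⟨⟨⟨h3, h4⟩, h5⟩, h6⟩, h7⟩ := h.2 a h1
    · exact (h2 h3).elim
    · have h4 := h.1 _ h3
      simp only [chkRep, Bool.and_eq_true, allLt_iff, Bool.or_eq_true, decide_eq_true_iff, ← H.hn,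
        Bool.not_eq_true', ← Bool.not_eq_true] at h4
      obtain ⟨⟨⟨⟨h4, h5⟩, h6⟩, h7⟩, h8⟩ := h4
      refine fun col h9 => (Set.ncard_le_ncard (t := {col ⟨β, h4⟩, col ⟨γ, h5⟩}) ?_).trans
        ((Set.ncard_insert_le _ _).trans (by simp))
      rintro _ ⟨r, hr, rfl⟩
      have h10 := (h8 r r.2).resolve_left (not_not.2 ((inS_iff H _ r).2 hr))
      push Not at h10
      obtain ⟨u, hu, ⟨h10, h11⟩, h12⟩ := h10
      have h13 := (inS_iff H _ ⟨u, hu⟩).1 h10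
      rw [h9 r hr _ h13 ((nzA_iff H r ⟨u, hu⟩).1 h11)]
      exact h12.imp
        (fun e => h9 _ h13 _ ((inS_iff H _ ⟨β, h4⟩).1 h6) ((nzA_iff H ⟨u, hu⟩ ⟨β, h4⟩).1 e))
        fun e => h9 _ h13 _ ((inS_iff H _ ⟨γ, h5⟩).1 h7) ((nzA_iff H ⟨u, hu⟩ ⟨γ, h5⟩).1 e)
    refine (ih _ h6 _ h4 h5 rfl).refl ⟨_, h3⟩ fun j => ?_
    have := (ZMod.intCast_zmod_eq_zero_iff_dvd _ 2).2 (Int.dvd_of_emod_eq_zero (h7 j j.2))
    rw [← H.sim, ← H.car ⟨_, h3⟩, C.A_simple_simple] at this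
    push_cast at this
    linear_combination this
  have h1 : e = fun i : Fin l => (dig (Nat.ofBits fun j => decide (e j = 1)) 1 i : ZMod 2) :=
    funext fun i => by
      have := Nat.testBit_ofBits_lt (fun j => decide (e j = 1)) i i.2
      rw [Nat.testBit_eq_decide_div_mod_eq, decide_eq_decide, ← Nat.shiftRight_eq_div_pow] at this
      change _ = ((_ >>> (1 * i.val) % 2 : ℕ) : ZMod 2)
      rw [one_mul]
      rcases Nat.mod_two_eq_zero_or_one (_ >>> i.val) with e' | e' <;> rw [e'] at this ⊢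
      · exact ((by decide : ∀ a : ZMod 2, a = 0 ∨ a = 1) _).resolve_right (by simpa using this)
      · exact this.1 rfl
  rw [h1] at he ⊢
  exact key _ _ (Nat.ofBits_lt_two_pow _) (fun e => he (by rw [e]; funext; simp [dig]; rfl)) rfl

end

theorem n0_G2 : ∀ e, e ≠ 0 → N0 cbG2 2 e := n0_of_chk (tabOf certG2) (P := 0x101032200000000)
  (L := [(1, 2, 5)]) (by decide +kernel)

theorem n0_F4 : ∀ e, e ≠ 0 → N0 cbF4 2 e := n0_of_chk (tabOf certF4)
  (P := 0xe2204410f0306460f630e620d640c670d4407250f4300000101032200000000)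
  (L := [(1, 0, 0), (4, 2, 23)]) (by decide +kernel)

theorem n0_E6 : ∀ e, e ≠ 0 → N0 cbE6 2 e := n0_of_chk (tabOf certE6)
  (P := 0x2fa72ea915842ca72ba6128511852e6927a826a825a81c8323a71a8421a9188f396627483da53a663d653aa639a638aa2f272f472c4734a42b2632a5250830b03789368935890a6233880c63318a0e6e3f883e8a1c433c883b871a241504388a196b074d1b6905421d6a02211f6a1e6a0f2c0f4c01010d4a0b2b000000000000)
  (L := [(1, 16, 16), (2, 0, 11)]) (by decide +kernel)

theorem n0_E7 : ∀ e, e ≠ 0 → N0 cbE7 2 e := n0_of_chk (tabOf certE7)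
  (P := 0x2fa72ea95dca2ca72ba62aa659cb58cf27a826a825a854c923a722a721a9588f4fcc4ece3da53ca54bcb3aa639a638aa47cd46cd35a434a443cc32a531a530a57fc8768975897cc87bc77ac7718a4e6e7f8876c975c97c887b877a8771ca70d0596b474d6dc66cc65d6a6ac769c75e6a4f2c4f4c65c564c54b2b62c661c660c66fad6eaf158414846bac128511852e6967ae66ae1d831c8363ad1a8419841884396627487dab3a663d653c6579ac78b02f272f472c4774aa2b262a26250870b0378f368f0b620a62338e0c630f630e633f8e3e901c431d433b8d1a241504388a072207421b6f0542032102211f701e7003010f4301010d500000000000000000)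
  (L := [(1, 0, 33), (2, 0, 0), (3, 0, 0)]) (by decide +kernel)

theorem n0_E8 : ∀ e, e ≠ 0 → N0 cbE8 2 e := n0_of_chk (tabOf certE8)
  (P := 0xbfeebef05dcabcecbbed5ac959cb58cfb7efb6efb5ed54c9b3ee52c8b1eeb0f44fcc4eceadec4cca4bcbaaeba9eda8f147cd46cd45cba4eb43cca2ea41ccb0b49ff09ef09dee7cc89bef7ac799ef98f397ef96f175c994ed93ee72c871ca70d08ff08ef28df06cc68bef6ac789f188f187f186f165c584f183f062c661c660c6efadeeaffdebecabebacfaeaf9ecf8f0e7aee6aee5acf4eae3adf2e9e1ad9893efedeeeffdabecebebecfaaaf9acf8b0e7eee6eee5ecf4aae3edf2a9e1ede0f5b78fb68fb58ddce9b38edae8b18e8e72bf8ebe90d5eabc8cbb8dd2e9d1ebd0f1996f87519b6fcce79d6ecae89f709e708f308f50c5e68d508b2fc2e7c1e7c0e7dfd1ded1ddcf2ca7dbd02aa6d9d0d8d4d7d0d6d225a8d4ced3cf22a721a9588fcfd1ced3cdd13ca5cbd03aa6c9d2c8d2c7d2c6d235a4c4d2c3d132a531a530a5ffcffed17589fccdfbce7288718a4e6ef7d0f6d0f5ce7c88f3cf7a87f1cff0d5596b474dedcd5a695d6aeacce9cee8d24f2c4f4c4c4ae4cc4b2be2cb450be0d56fb26eb46db214846bb1128569b368b367b366b31d8364b363b21a84198418847fb27eb27db03a667bb13c6579b178b577b176b32c4774af73b02a26250870b0379436940b62349433930c630f630e633f933e953d931d433b921a2439943894072207421b74054203211c751f751e7503010f4301010d5500000a3600000000)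
  (L := [(1, 0, 0), (3, 7, 14)]) (by decide +kernel)

theorem lin_mod {B ι : Type} [Fintype B] [DecidableEq B] [Fintype ι] [DecidableEq ι]
    {C : RootSys B ι} {w : Equiv.Perm ι} (hw : w ∈ C.W) {x : B → ℤ} (h : ∀ i, 2 ∣ C.sp i x) :
    ∃ y, C.lin w x = x + (2 : ℤ) • y := by
  obtain ⟨l, rfl⟩ := C.mem_W_iff.1 hw
  clear hw
  induction' l with i l ih
  · exact ⟨0, by simp⟩
  obtain ⟨y, hy⟩ := ih
  obtain ⟨k, hk⟩ := h i
  refine ⟨C.reflL (C.simple i) y - k • C.vec (C.simple i), ?_⟩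
  rw [C.wp_cons, RootSys.lin_mul_apply (C.sref_mem_Aut i) (C.wp_mem_Aut l), hy, C.lin_sref, map_add,
    map_smul, C.reflL_apply, C.cor_simple, hk]
  module

theorem nb_D4 {π : Equiv.Perm (Fin 24)} (h : ∀ r i, cD4.vec (π r) (pD4 i) = cD4.vec r i) :
    NB cD4 π 2 := fun e w hw col _ h1 h2 => by
  have H : TabOf cD4 tabD4 := tabOf certD4
  have hA : ∀ r s : Fin 24, cD4.A r s = 0 ↔ nzA tabD4 r s = false := fun r s => by
    rw [← Bool.not_eq_true, nzA_iff H, not_not]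
  have h3 := mem_Aut_of_sym (C := cD4) goodD4.conn (q := pD4) (by simp only [carD4']; decide) h
  have h4 := mul_mem (cD4.W_le_Aut hw) h3
  have h5 : ∀ r s a b, cD4.A r s = 0 → cD4.A ((w * π) r) r ≠ 0 → cD4.A ((w * π) r) a = 0 →
      cD4.A r a = 0 → cD4.A ((w * π) s) s ≠ 0 → cD4.A ((w * π) s) b = 0 → cD4.A s b = 0 →
      False := fun r s a b a1 a2 a3 a4 a5 a6 a7 => by
    have k : ∀ u r a : Fin 24, cD4.A u r ≠ 0 → cD4.A u a = 0 → cD4.A r a = 0 →
        ∀ i, 2 ∣ cD4.vec u i - cD4.vec r i := by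
      simp only [Ne, hA, H.vec]; decide +kernel
    obtain ⟨y, hy⟩ := lin_mod hw (x := cD4.vec (π r) + cD4.vec (π s)) fun i => by
      rw [← RootSys.A_aut h3] at a1
      rw [map_add, ← cD4.A_simple, ← cD4.A_simple]
      generalize π r = r, π s = s at a1 ⊢
      revert r s i
      simp only [hA, H.car]; decide +kernel
    rw [map_add, ← RootSys.vec_aut (cD4.W_le_Aut hw), ← RootSys.vec_aut (cD4.W_le_Aut hw)] at hy
    refine (show ∀ r s : Fin 24, cD4.A r s = 0 → ¬ ∀ i, 2 ∣ cD4.vec r (pD4 i) +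
      cD4.vec s (pD4 i) - (cD4.vec r i + cD4.vec s i) by
        simp only [hA, H.vec]; decide +kernel) r s a1 fun i => ?_
    have b1 := congrFun hy (pD4 i)
    have b2 := k _ _ _ a2 a3 a4 (pD4 i)
    have b3 := k _ _ _ a5 a6 a7 (pD4 i)
    simp only [Pi.add_apply, h, Pi.smul_apply, smul_eq_mul, Equiv.Perm.mul_apply] at b1 b2 b3
    omega
  by_contra! h6
  obtain ⟨_, ⟨r, hr, rfl⟩, _, ⟨s, hs, rfl⟩, _, ⟨t, ht, rfl⟩, a1, a2, a3⟩ :=
    (Set.two_lt_ncard (Set.toFinite _)).1 h6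
  have h7 : ∀ r ∈ Sg cD4 e, ∀ s ∈ Sg cD4 e, col r ≠ col s → cD4.A r s = 0 ∧
      cD4.A ((w * π) r) s = 0 := fun r hr s hs e =>
    ⟨by_contra fun e' => e (h2.2 r hr s hs e'),
      by_contra fun e' => e ((h2.1 r hr).symm.trans (h2.2 _ (h1 r hr) s hs e'))⟩
  have h8 : ∀ r ∈ Sg cD4 e, ∀ s ∈ Sg cD4 e, ∀ t ∈ Sg cD4 e, col r ≠ col s → col r ≠ col t →
      col s ≠ col t → (cD4.A ((w * π) r) r = 0 ↔ ¬ cD4.A ((w * π) s) s = 0) :=
    fun r hr s hs t ht a1 a2 a3 => ⟨fun b1 b2 => (show ∀ r s : Fin 24, cD4.A r s = 0 → ∀ t,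
      cD4.A r t = 0 → cD4.A s t = 0 → ∀ a, cD4.A a r = 0 → cD4.A a s = 0 → cD4.A a t = 0 →
      ∀ b, cD4.A b r = 0 → cD4.A b s = 0 → cD4.A b t = 0 → cD4.A a b ≠ 0 by
        simp only [Ne, hA]; decide +kernel) r s (h7 r hr s hs a1).1 t (h7 r hr t ht a2).1
        (h7 s hs t ht a3).1 _ b1 (h7 r hr s hs a1).2 (h7 r hr t ht a2).2 _ (h7 s hs r hr a1.symm).2
        b2 (h7 s hs t ht a3).2 ((RootSys.A_aut h4 r s).trans (h7 r hr s hs a1).1),
      fun b2 => by_contra fun b1 => h5 r s s r (h7 r hr s hs a1).1 b1 (h7 r hr s hs a1).2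
        (h7 r hr s hs a1).1 b2 (h7 s hs r hr a1.symm).2 (h7 s hs r hr a1.symm).1⟩
  have := h8 r hr s hs t ht a1 a2 a3
  have := h8 r hr t ht s hs a2 a1 a3.symm
  have := h8 s hs t ht r hr a3 a1.symm a2.symm
  tauto

end CF.KI
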